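import Cfsg.Agent.NotResT.NotC
import Cfsg.Agent.NotResT.All
import Cfsg.Agent.NotResT.Listed
import Cfsg.Agent.ResEven.Base

/-!
# `A_n`, `n = 7` or `n ≥ 9`, is not a `C₂`-group (helper44)
-/

set_option autoImplicit false

namespace Cfsg.Agent.H44.AltNC

open Subgroup Cfsg Equiv Equiv.Perm Cfsg.Agent.NotResT Cfsg.Agent.NotResT.AltSub Cfsg.Agent.NotResT.NotC

universe u

/-- the product of two transpositions on the first four points -/
theorem exists_x {n : ℕ} (hn : 4 ≤ n) : ∃ x : alternatingGroup (Fin n), orderOf x = 2 ∧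
    ∀ i : Fin n, (x : Perm (Fin n)) i ≠ i ↔ i.val < 4 := by
  let a : Fin n := ⟨0, by omega⟩
  let b : Fin n := ⟨1, by omega⟩
  let c : Fin n := ⟨2, by omega⟩
  let d : Fin n := ⟨3, by omega⟩
  have hab : a ≠ b := fun h => absurd (congrArg Fin.val h) (by norm_num)
  have hac : a ≠ c := fun h => absurd (congrArg Fin.val h) (by norm_num)
  have had : a ≠ d := fun h => absurd (congrArg Fin.val h) (by norm_num)
  have hbc : b ≠ c := fun h => absurd (congrArg Fin.val h) (by norm_num)
  have hbd : b ≠ d := fun h => absurd (congrArg Fin.val h) (by norm_num)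
  have hcd : c ≠ d := fun h => absurd (congrArg Fin.val h) (by norm_num)
  let y : Perm (Fin n) := swap a b * swap c d
  have hs : sign y = 1 := by
    rw [map_mul, sign_swap hab, sign_swap hcd]; rfl
  have ya : y a = b := by
    change swap a b (swap c d a) = b
    rw [swap_apply_of_ne_of_ne hac had, swap_apply_left]
  have yb : y b = a := by
    change swap a b (swap c d b) = a
    rw [swap_apply_of_ne_of_ne hbc hbd, swap_apply_right]
  have yc : y c = d := by
    change swap a b (swap c d c) = d
    rw [swap_apply_left, swap_apply_of_ne_of_ne had.symm hbd.symm]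
  have yd : y d = c := by
    change swap a b (swap c d d) = c
    rw [swap_apply_right, swap_apply_of_ne_of_ne hac.symm hbc.symm]
  have yo : ∀ i : Fin n, ¬ i.val < 4 → y i = i := by
    intro i hi
    have h1 : i ≠ a := fun h => hi (by rw [h]; norm_num [a])
    have h2 : i ≠ b := fun h => hi (by rw [h]; norm_num [b])
    have h3 : i ≠ c := fun h => hi (by rw [h]; norm_num [c])
    have h4 : i ≠ d := fun h => hi (by rw [h]; norm_num [d])
    change swap a b (swap c d i) = i
    rw [swap_apply_of_ne_of_ne h3 h4, swap_apply_of_ne_of_ne h1 h2]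
  have hcase : ∀ i : Fin n, i.val < 4 → i = a ∨ i = b ∨ i = c ∨ i = d := by
    intro i hi
    have h5 : i.val = 0 ∨ i.val = 1 ∨ i.val = 2 ∨ i.val = 3 := by omega
    rcases h5 with h | h | h | h
    · exact Or.inl (Fin.ext h)
    · exact Or.inr (Or.inl (Fin.ext h))
    · exact Or.inr (Or.inr (Or.inl (Fin.ext h)))
    · exact Or.inr (Or.inr (Or.inr (Fin.ext h)))
  have hyy : y * y = 1 := by
    ext i
    rw [Perm.mul_apply, Perm.one_apply]
    by_cases hi : i.val < 4
    · rcases hcase i hi with rfl | rfl | rfl | rfl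
      · rw [ya, yb]
      · rw [yb, ya]
      · rw [yc, yd]
      · rw [yd, yc]
    · rw [yo i hi, yo i hi]
  refine ⟨⟨y, mem_alternatingGroup.2 hs⟩, ?_, ?_⟩
  · refine orderOf_eq_prime (by rw [pow_two]; exact Subtype.ext hyy) fun h => hab ?_
    have h1 : y = 1 := congrArg Subtype.val h
    rw [h1, Perm.one_apply] at ya
    exact ya
  · intro i
    change y i ≠ i ↔ i.val < 4
    constructor
    · intro h
      by_contra hi
      exact h (yo i hi)
    · intro hi
      rcases hcase i hi with rfl | rfl | rfl | rfl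
      · rw [ya]; exact hab.symm
      · rw [yb]; exact hab
      · rw [yc]; exact hcd.symm
      · rw [yd]; exact hcd

theorem alt_not_chev (hCT : ChevCharTwo) {n : ℕ} (hn : n = 7 ∨ 9 ≤ n) :
    ¬ IsChevSimple 2 (alternatingGroup (Fin n)) := by
  rcases hn with rfl | h9
  · exact NotC.alt_not_chev hCT (Or.inl rfl)
  intro h
  have h5 : 5 ≤ Nat.card (Fin n) := by rw [Nat.card_fin]; omega
  have hs : IsSimpleGroup (alternatingGroup (Fin n)) := alternatingGroup.isSimpleGroup h5
  have hz : center (alternatingGroup (Fin n)) = ⊥ := alternatingGroup.center_eq_bot (by rw [Nat.card_fin]; omega)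
  have hna : ¬ IsMulCommutative (alternatingGroup (Fin n)) := by
    intro h
    have h1 : center (alternatingGroup (Fin n)) = ⊤ := by
      rw [eq_top_iff]
      intro a _
      exact mem_center_iff.2 fun b => h.is_comm.comm b a
    rw [hz] at h1
    exact bot_ne_top h1
  have hc := hCT _ hna h
  obtain ⟨x, hx, hmx⟩ := exists_x (n := n) (by omega)
  exact ResEven.Base.noComp_of_charTwo hc hx _ (isComponentOf hmx h9)

theorem cube_lt {m : ℕ} (hm : 7 ≤ m) : m * (m ^ 2 - 1) < m.factorial := by
  induction m, hm using Nat.le_induction with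
  | base => decide
  | succ m hm ih =>
    rw [Nat.factorial_succ]
    have h1 : (m + 1) ^ 2 - 1 ≤ m * (m ^ 2 - 1) := by
      have h2 : m + 2 ≤ m ^ 2 - 1 := by
        have : 7 * m ≤ m ^ 2 := by nlinarith
        omega
      calc (m + 1) ^ 2 - 1 = m * (m + 2) := by
            have : (m + 1) ^ 2 = m * (m + 2) + 1 := by ring
            rw [this, Nat.add_sub_cancel]
        _ ≤ m * (m ^ 2 - 1) := Nat.mul_le_mul_left _ h2
    exact Nat.mul_lt_mul_of_pos_left (lt_of_le_of_lt h1 ih) (by omega)

theorem list_ne {m : ℕ} (hm : 7 ≤ m) : ∀ k ∈ CList, 2 * k ≠ m.factorial := by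
  by_cases h : m < 60
  · have key : ∀ m < 60, 7 ≤ m → ∀ k ∈ CList, 2 * k ≠ m.factorial := by decide +kernel
    exact key m h hm
  · intro k hk e
    have h1 : ∀ k ∈ CList, 2 * k < (60 : ℕ).factorial := by decide +kernel
    have h2 : (60 : ℕ).factorial ≤ m.factorial := Nat.factorial_le (by omega)
    have h3 := h1 k hk
    omega

theorem alt_not_cp (hCT : ChevCharTwo) (hL : ListedCard) {n : ℕ} (hn : n = 7 ∨ 9 ≤ n) :
    ¬ IsCpSimple 2 (alternatingGroup (Fin n)) := by
  intro h
  rcases h with h | ⟨m, hm, ⟨e⟩⟩ | ⟨-, h⟩ | ⟨h, -⟩ | ⟨h, -⟩ | ⟨h, -⟩ | ⟨h, -⟩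
  · exact alt_not_chev hCT hn h
  · have h1 := alt_card (n := n) (by omega)
    rw [Nat.card_congr e.toEquiv, alt_card (by omega)] at h1
    have h2 : m.factorial ≤ (6 : ℕ).factorial := Nat.factorial_le (by omega)
    have h3 : (7 : ℕ).factorial ≤ n.factorial := Nat.factorial_le (by omega)
    have h4 : (6 : ℕ).factorial < (7 : ℕ).factorial := by decide
    omega
  · have h1 := alt_card (n := n) (by omega)
    rcases hL _ h with ⟨F, _, _, hF, ⟨e⟩⟩ | h4
    · have h2 := ClassicalGeometry.PSL2Basic.card_PSL2_odd F (CTwoTab.isFM9_odd hF)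
      rw [← Nat.card_congr e.toEquiv, mul_comm, h1] at h2
      rcases hF with ⟨hp, -⟩ | h9
      · have hd : Fintype.card F ∣ n.factorial := by rw [h2]; exact dvd_mul_right _ _
        have hle := (hp.dvd_factorial).1 hd
        have h3 := f_mono hle
        have h5 := cube_lt (m := n) (by omega)
        rw [← h2] at h3
        omega
      · rw [h9] at h2
        have h3 : (7 : ℕ).factorial ≤ n.factorial := Nat.factorial_le (by omega)
        have h4 : 9 * (9 ^ 2 - 1) < (7 : ℕ).factorial := by decide
        omega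
    · exact list_ne (m := n) (by omega) _ h4 h1
  all_goals omega


/-- **`A_n` is not a `C₂`-group** -/
theorem not_cp {n : ℕ} (hn : n = 7 ∨ 9 ≤ n) : ¬ IsCpSimple 2 (alternatingGroup (Fin n)) :=
  alt_not_cp NotResT.Inst.chevCharTwo NotResT.Listed.listedCard hn

end Cfsg.Agent.H44.AltNC
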