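import Cfsg.Agent.H498.SporOut

/-!
# The outer automorphism groups of the sporadic groups are 2-groups (helper44)
-/

set_option autoImplicit false

namespace Cfsg.Agent.H44.AltOut

open Subgroup Cfsg

universe u

theorem out_spor {M : Type u} [Group M] [Finite M] (hsp : IsSporadicGroup M) (α : MulAut M) :
    ∃ k, α ^ 2 ^ k ∈ (MulAut.conj : M →* MulAut M).range := by
  have h1 := H498.SporOut.index_le_two hsp
  have h2 : (MulAut.conj : M →* MulAut M).range.index ≠ 0 := Subgroup.index_ne_zero_of_finite
  have h3 : (MulAut.conj : M →* MulAut M).range.index = 1 ∨ (MulAut.conj : M →* MulAut M).range.index = 2 := by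
    omega
  refine ⟨1, ?_⟩
  rw [pow_one]
  rcases h3 with h3 | h3
  · rw [Subgroup.index_eq_one] at h3
    rw [h3]
    exact mem_top _
  · exact Subgroup.sq_mem_of_index_two h3 α

end Cfsg.Agent.H44.AltOut
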