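import Cfsg.Agent.H44.AltNC
import Cfsg.Agent.H313.AltAlt
import Cfsg.Agent.SevenCases.SporFin
import Cfsg.Agent.CTwoTab.OddRows
import Cfsg.Agent.H295.A7Spor
import Cfsg.Agent.NotCT.Orders
import Cfsg.Agent.S0254

/-!
# No sporadic group has the centralizer of an involution of `A_m`, `m = 4 k + r` (helper44)

* `NoA r X` : no component of the centralizer of an involution of `X` is `A_r`;
* `spor` : the sporadic groups;
* `out_spor` : the outer automorphism group of a sporadic group is a 2-group.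
-/

set_option autoImplicit false

namespace Cfsg.Agent.H44.AltSpor

open Subgroup Cfsg Equiv Equiv.Perm Cfsg.Agent.H313 Cfsg.Agent.CTwoTab

universe u v

/-- no component of the centralizer of an involution is `A_r` -/
def NoA (r : ℕ) (X : Type*) [Group X] : Prop :=
  ∀ t : X, orderOf t = 2 → ∀ K : Subgroup X, IsComponentOf K (centralizer ({t} : Set X)) →
    Nonempty (↥K ≃* ↥(alternatingGroup (Fin r))) → False

section

variable {X : Type u} {Y : Type v} [Group X] [Group Y] {r : ℕ}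

theorem NoA.of_equiv (e : X ≃* Y) (h : NoA r X) : NoA r Y := by
  rintro t ht K hK ⟨f⟩
  have h1 := isComponentOf_map e.symm hK
  rw [map_centralizer_singleton] at h1
  refine h (e.symm t) ?_ _ h1 ⟨(subMap e.symm K).symm.trans f⟩
  rw [← ht]
  exact orderOf_injective e.symm.toMonoidHom e.symm.injective t

theorem two_card {r : ℕ} (hr : 2 ≤ r) : 2 * Nat.card ↥(alternatingGroup (Fin r)) = r.factorial := by
  have : Nontrivial (Fin r) := Fin.nontrivial_iff_two_le.2 hr
  have h := two_mul_nat_card_alternatingGroup (α := Fin r)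
  rwa [Nat.card_perm, Nat.card_fin] at h

theorem noA_of_card {n : ℕ} (hr : 2 ≤ r) (hn : 2 * n ≠ r.factorial)
    (h : ∀ t : X, orderOf t = 2 → ∀ K : Subgroup X, IsComponentOf K (centralizer ({t} : Set X)) → Nat.card ↥K = n) :
    NoA r X := by
  rintro t ht K hK ⟨f⟩
  apply hn
  rw [← h t ht K hK, Nat.card_congr f.toEquiv, two_card hr]

theorem noA_of_compCard {S : ℕ → ℕ → Prop} (hr : 2 ≤ r) (h : CompCard S X)
    (h1 : ∀ n m, S n m → 2 * n ≠ r.factorial) : NoA r X := by
  rintro t ht K hK ⟨f⟩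
  apply h1 _ _ (h t ht K hK)
  rw [Nat.card_congr f.toEquiv, two_card hr]

theorem noA_of_compC2 (hr : r = 7 ∨ 9 ≤ r) (h : CompC2 X) : NoA r X := by
  rintro t ht K hK ⟨f⟩
  have h1 := (h.comp t ht K hK).1
  have hs : IsSimpleGroup ↥(alternatingGroup (Fin r)) := H295.A7.alt_simple (by omega)
  have h0 : center ↥(alternatingGroup (Fin r)) = ⊥ :=
    alternatingGroup.center_eq_bot (by rw [Nat.card_eq_fintype_card, Fintype.card_fin]; omega)
  have hz : center ↥K = ⊥ := center_eq_bot_congr f.symm h0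
  have e : (↥K ⧸ center ↥K) ≃* ↥(alternatingGroup (Fin r)) :=
    ((QuotientGroup.quotientMulEquivOfEq hz).trans QuotientGroup.quotientBot).trans f
  exact AltNC.not_cp hr ((CpQuot.Congr.isCpSimple_iff e 2).1 h1)

theorem noA_of_noSpec (h : ∀ (x : X) (K : Subgroup X), orderOf x = 2 →
    IsComponentOf K (centralizer ({x} : Set X)) → SevenCases.NoSpec ↥K) : NoA 6 X := by
  rintro t ht K hK ⟨f⟩
  refine (h t K ht hK).1 ?_
  let F := GaloisField 3 2
  let _i : Fintype F := Fintype.ofFinite F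
  have hF : Fintype.card F = 9 := by
    rw [← Nat.card_eq_fintype_card]
    exact (GaloisField.card 3 2 (by norm_num)).trans (by norm_num)
  obtain ⟨g⟩ := S0254.result hF
  exact ⟨F, inferInstance, inferInstance, Or.inr hF, ⟨f.trans g.symm⟩⟩

theorem noA_of_charTwo [Finite X] (h : IsCharacteristicTwoType X) : NoA r X :=
  fun _ ht K hK _ => ResEven.Base.noComp_of_charTwo h ht K hK

end

/-! ### Rows -/

theorem fact_ne {n : ℕ} (a : ℕ) (h1 : a.factorial < 2 * n) (h2 : 2 * n < (a + 1).factorial) (r : ℕ) :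
    2 * n ≠ r.factorial := by
  intro h
  rcases Nat.lt_or_ge a r with h3 | h3
  · have := Nat.factorial_le (show a + 1 ≤ r by omega)
    omega
  · have := Nat.factorial_le h3
    omega

theorem he {X : Type u} [Group X] {r : ℕ} (hr : 2 ≤ r) (h : Spor.IsoHe X) : NoA r X := by
  obtain ⟨e⟩ := h
  refine NoA.of_equiv e.symm ?_
  refine noA_of_card (n := 80640) hr (fact_ne 8 (by decide) (by decide) r) fun t ht K hK => ?_
  have h2 : t * t = 1 := by rw [← pow_two, ← ht, pow_orderOf_eq_one]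
  have h1 : t ≠ 1 := by
    rintro rfl
    rw [orderOf_one] at ht
    omega
  obtain ⟨g, -, rfl⟩ := SevenRes.exists_conj_comp (t := Cfsg.Agent.KFacts.He.Bound.z) (u := Cfsg.Agent.KFacts.He.Lv.gn Cfsg.Spor.He.Gen.a)
    (N := Cfsg.Agent.KFacts.He.TwoACent.L) (fun x hx => by
      have hx2 : x * x = 1 := by rw [← pow_two, ← hx, pow_orderOf_eq_one]
      have hx1 : x ≠ 1 := by
        rintro rfl
        rw [orderOf_one] at hx
        omega
      rcases Cfsg.Agent.KFacts.He.Classes.two_classes_a hx2 hx1 with ⟨g, hg⟩ | ⟨g, hg⟩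
      · exact Or.inl (isConj_iff.2 ⟨g, hg⟩)
      · exact Or.inr (isConj_iff.2 ⟨g, hg⟩)) SevenRes.He.no_comp_z SevenRes.He.comp_a t K ht hK
  rw [SevenRes.card_map_conj, SevenRes.He.card_L]

theorem suz {X : Type u} [Group X] {r : ℕ} (hr : 2 ≤ r) (h8 : r ≠ 8) (h : Spor.IsoSuz X) : NoA r X := by
  obtain ⟨e⟩ := h
  refine NoA.of_equiv e.symm ?_
  refine noA_of_card (n := 20160) hr ?_ fun t ht K hK => ?_
  · intro h
    rcases Nat.lt_trichotomy r 8 with h3 | h3 | h3
    · have := Nat.factorial_le (show r ≤ 7 by omega)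
      have h7 : (7 : ℕ).factorial = 5040 := by decide
      omega
    · exact h8 h3
    · have := Nat.factorial_le (show 9 ≤ r by omega)
      have h7 : (9 : ℕ).factorial = 362880 := by decide
      omega
  · obtain ⟨c, -, h1⟩ := CTwoTab.Suz.comp_cases ht hK
    rw [Nat.card_congr (subMap (MulAut.conj c).symm K).toEquiv, h1]
    exact Cfsg.Agent.KFacts.SuzTwoB.card_L

/-! ### A normal `A₇` in the centralizer: `McL`, `Ly`, `O'N` -/

open Cfsg.Agent.H313.AltEM Cfsg.Agent.H313.AltAlt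

section

variable {X : Type u} [Group X] {t : X} {A : Subgroup X}

theorem quo_seven (h : EM t A 7) : Nonempty ((↥A ⧸ center ↥A) ≃* ↥(alternatingGroup (Fin 7))) := by
  obtain ⟨f⟩ := h.iso
  have h0 : center ↥(alternatingGroup (Fin 7)) = ⊥ :=
    alternatingGroup.center_eq_bot (by rw [Nat.card_eq_fintype_card, Fintype.card_fin]; omega)
  have hz : center ↥A = ⊥ := center_eq_bot_congr f.symm h0
  exact ⟨((QuotientGroup.quotientMulEquivOfEq hz).trans QuotientGroup.quotientBot).trans f⟩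

theorem norm_cent {r : ℕ} (h : EM t A r) : ∀ g ∈ centralizer ({t} : Set X), g ∈ normalizer (A : Set X) := by
  intro g hg
  have hg1 := mem_centralizer_singleton_iff.1 hg
  have hg2 := mem_centralizer_singleton_iff.1 (inv_mem hg)
  rw [mem_normalizer_iff]
  intro x
  constructor
  · intro hx
    exact h.nA g hg1 x hx
  · intro hx
    have h1 := h.nA g⁻¹ hg2 _ hx
    have h2 : g⁻¹ * (g * x * g⁻¹) * g⁻¹⁻¹ = x := by group
    rwa [h2] at h1

theorem le_cent {r : ℕ} (h : EM t A r) : A ≤ centralizer ({t} : Set X) :=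
  fun a ha => mem_centralizer_singleton_iff.2 (h.cA a ha)

theorem mt_seven [Finite X] {n : ℕ} (hn : 8 ≤ n) (L : TypeM.Two.MT n X) (h : EM t A 7) : False := by
  obtain ⟨g, hg⟩ := L.one t h.sq h.ne
  have h' := EM.map h (MulAut.conj g⁻¹)
  have ht : (MulAut.conj g⁻¹ : MulAut X) t = L.t := by
    rw [MulAut.conj_apply, ← hg]; group
  rw [ht] at h'
  have hle := le_cent h'
  have h1 := H295.A7.sub_normal (norm_cent h')
  obtain ⟨h2, ⟨f⟩⟩ := H295.A7.sub_qs hle h'.quasi
  obtain ⟨q⟩ := quo_seven h'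
  have hs := H295.A7.alt_simple (n := n) (by omega)
  have hcard := two_card (r := n) (by omega)
  have h8 : (8 : ℕ).factorial ≤ n.factorial := Nat.factorial_le hn
  have h8' : (8 : ℕ).factorial = 40320 := by decide
  refine H295.A7.false_of_proj h1 h2 ⟨f.symm.trans q⟩ (S := ↥(alternatingGroup (Fin n))) ?_ (by omega)
    (H799.MTSyl.proj L) (H799.MTSyl.proj_surj L) ?_
  · exact alternatingGroup.center_eq_bot (by rw [Nat.card_eq_fintype_card, Fintype.card_fin]; omega)
  · intro x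
    refine ⟨1, ?_⟩
    rw [pow_one, pow_two]
    apply Subtype.ext
    change (x : ↥(centralizer ({L.t} : Set X))) * x = 1
    rcases (H799.MTSyl.proj_ker L x).1 x.2 with h4 | h4
    · rw [h4, one_mul]
    · rw [h4]
      exact L.K.z_mul_z

theorem mcl (hX : Spor.IsoMcL X) (h : EM t A 7) : False := by
  obtain ⟨hfin, -, -, ⟨L⟩⟩ := TypeM.FactsMcL.facts hX
  exact mt_seven le_rfl L h

theorem ly (hX : Spor.IsoLy X) (h : EM t A 7) : False := by
  obtain ⟨hfin, -, -, ⟨L⟩⟩ := TypeM.FactsLy.facts hX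
  exact mt_seven (by norm_num) L h

end

namespace ONRow

open Cfsg.Spor (ON)
open Cfsg.Agent.SporadicB.ON45Word (on)
open Cfsg.Agent.KFacts.ON.Struct Cfsg.Agent.KFacts.ON.Qs Cfsg.Agent.KFacts.ON.Words
open Cfsg.Agent.KFacts.ON.Cent (finite_ON)
open Cfsg.Agent.GTwoRows.ONRow (C J_le_C)
open Cfsg.Agent.ONType.Psl (PSL3)
open Cfsg.Agent.H295.A7.ONRow

theorem seven {t : ON} {A : Subgroup ON} (h : EM t A 7) : False := by
  have := finite_ON
  obtain ⟨g, hg⟩ := isConj_iff.1 (KFacts.ON.OneClass.one_class h.sq h.ne).symm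
  have h' := EM.map h (MulAut.conj g⁻¹)
  have ht : (MulAut.conj g⁻¹ : MulAut ON) t = on .f := by
    rw [MulAut.conj_apply, ← hg]; group
  rw [ht] at h'
  have hle := le_cent h'
  have hBJ : A.map (MulAut.conj g⁻¹ : MulAut ON).toMonoidHom ≤ J := by
    have h1 : ⁅A.map (MulAut.conj g⁻¹ : MulAut ON).toMonoidHom, A.map (MulAut.conj g⁻¹ : MulAut ON).toMonoidHom⁆ =
        A.map (MulAut.conj g⁻¹ : MulAut ON).toMonoidHom := Subgroup.isPerfect_iff.mp h'.quasi.1
    rw [← h1, ← UGT.I34.ONBal.L_eq onRec]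
    exact Subgroup.commutator_mono hle hle
  have hn : ∀ g' ∈ J, g' ∈ normalizer (A.map (MulAut.conj g⁻¹ : MulAut ON).toMonoidHom : Set ON) :=
    fun g' hg' => norm_cent h' g' (J_le_C hg')
  obtain ⟨h1, ⟨f⟩⟩ := H295.A7.sub_qs hBJ h'.quasi
  obtain ⟨e⟩ := quo_seven h'
  obtain ⟨π, hπ, hker⟩ := exists_proj
  have hs : IsSimpleGroup PSL3 := KFacts.He.TwoA.simple_PSL3
  refine H295.A7.false_of_proj (H295.A7.sub_normal hn) h1 ⟨f.symm.trans e⟩ (S := PSL3) ?_ ?_ π hπ (by
    rw [hker]; exact GTwoRows.ONRow.isPGroup_center)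
  · refine CTwoTab.center_eq_bot_of_simple fun hc => ?_
    have h9 : Nat.Prime (Nat.card PSL3) := by
      let _i : CommGroup PSL3 := { (inferInstance : Group PSL3) with mul_comm := fun a b => hc.is_comm.comm a b }
      exact IsSimpleGroup.prime_card
    rw [ONType.PslCard.card_PSL3] at h9
    norm_num at h9
  · rw [ONType.PslCard.card_PSL3]; norm_num

end ONRow

theorem on {X : Type u} [Group X] {t : X} {A : Subgroup X} (hX : Spor.IsoON X) (h : EM t A 7) : False := by
  obtain ⟨e⟩ := hX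
  exact ONRow.seven (EM.map h e)

/-! ### Orders -/

section

variable {Ω : Type*} [DecidableEq Ω] [Fintype Ω] {s : Perm Ω} {k r : ℕ} {X : Type u} [Group X] {t : X}
  {A : Subgroup X}

theorem card_cent (hs : s * s = 1) (hk : s.support.card = 4 * k) (hr : Fintype.card {x // s x = x} = r)
    (h6 : 2 ≤ r) (f : ↥(Alt.CC s) ≃* ↥(centralizer ({t} : Set X))) :
    2 * Nat.card ↥(centralizer ({t} : Set X)) = r.factorial * (2 ^ (2 * k) * (2 * k).factorial) := by
  obtain ⟨c, h1, h2⟩ := AltCard.card_CC' hs (by omega)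
  have hc : c = 2 * k := by omega
  rw [← Nat.card_congr f.toEquiv, h2, hr, hc]

theorem pos_k [Finite X] (h : EM t A r)
    (hc : 2 * Nat.card ↥(centralizer ({t} : Set X)) = r.factorial * (2 ^ (2 * k) * (2 * k).factorial)) : 1 ≤ k := by
  by_contra hk
  have hk0 : k = 0 := by omega
  subst hk0
  have h6 := h.hr
  have h1 : 2 * Nat.card ↥A = r.factorial := by
    obtain ⟨e⟩ := h.iso
    rw [Nat.card_congr e.toEquiv, two_card (by omega)]
  rw [mul_zero, pow_zero, Nat.factorial_zero, mul_one, mul_one, ← h1] at hc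
  have h2 : A = centralizer ({t} : Set X) := Subgroup.eq_of_le_of_card_ge (le_cent h) (by omega)
  have h3 : t ∈ A := by
    rw [h2, mem_centralizer_singleton_iff]
  have h4 : (⟨t, h3⟩ : ↥A) ∈ center ↥A := by
    rw [mem_center_iff]
    intro a
    exact Subtype.ext (h.cA a a.2)
  obtain ⟨e⟩ := h.iso
  have h0 : center ↥(alternatingGroup (Fin r)) = ⊥ :=
    alternatingGroup.center_eq_bot (by rw [Nat.card_eq_fintype_card, Fintype.card_fin]; omega)
  rw [center_eq_bot_congr e.symm h0, mem_bot] at h4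
  exact h.ne (congrArg Subtype.val h4)

theorem dvd_two_mul {a b : ℕ} {d N : ℕ} (h : 2 * N = a * b) {u v : ℕ} (hu : u ∣ a) (hv : v ∣ b) (hd : 2 * d = u * v) :
    d ∣ N := by
  have h1 : 2 * d ∣ 2 * N := by
    rw [h, hd]
    exact mul_dvd_mul hu hv
  exact Nat.dvd_of_mul_dvd_mul_left (by norm_num) h1

theorem dvd_of (hc : 2 * Nat.card ↥(centralizer ({t} : Set X)) = r.factorial * (2 ^ (2 * k) * (2 * k).factorial))
    {r0 k0 d : ℕ} (hr : r0 ≤ r) (hk : k0 ≤ k) (hd : 2 * d = r0.factorial * (2 ^ (2 * k0) * (2 * k0).factorial)) :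
    d ∣ Nat.card X :=
  (dvd_two_mul hc (Nat.factorial_dvd_factorial hr) (mul_dvd_mul (pow_dvd_pow 2 (by omega))
    (Nat.factorial_dvd_factorial (by omega))) hd).trans (Subgroup.card_subgroup_dvd_card _)

end

/-! ### Main theorem -/

theorem spor_of (h0 : CpAut.AllKnown.{0}) {k r : ℕ} (hmod : r % 4 = 2 ∨ r % 4 = 3) (hbig : 2 ≤ k ∨ 7 ≤ r)
    {X : Type u} [Group X] [Finite X] [IsSimpleGroup X] (hsp : IsSporadicGroup X) {t : X} {A : Subgroup X}
    (h : EM t A r)
    (hc : 2 * Nat.card ↥(centralizer ({t} : Set X)) = r.factorial * (2 ^ (2 * k) * (2 * k).factorial)) : False := by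
  have h6 := h.hr
  have h2r : 2 ≤ r := by omega
  have h8 : r ≠ 8 := by omega
  have hk1 := pos_k h hc
  have d7 : 7 ≤ r → 20160 ∣ Nat.card X := fun h7 => dvd_of hc h7 hk1 (by decide)
  have d2 : 2 ≤ k → 138240 ∣ Nat.card X := fun h2 => dvd_of hc h6 h2 (by decide)
  have d10 : 10 ≤ r → 14515200 ∣ Nat.card X := fun h10 => dvd_of hc h10 hk1 (by decide)
  have small : ∀ {n : ℕ}, Nat.card X = n → ¬ 20160 ∣ n → ¬ 138240 ∣ n → False := by
    intro n hn h1 h2
    rw [hn] at d7 d2
    rcases hbig with h3 | h3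
    · exact h2 (d2 h3)
    · exact h1 (d7 h3)
  have seven : ∀ {n : ℕ}, Nat.card X = n → ¬ 138240 ∣ n → ¬ 14515200 ∣ n → r = 7 := by
    intro n hn h1 h2
    rw [hn] at d2 d10
    have h3 : ¬ 2 ≤ k := fun h3 => h1 (d2 h3)
    have h4 : ¬ 10 ≤ r := fun h4 => h2 (d10 h4)
    omega
  have noA : NoA r X → False := fun hX => hX t h.ord A h.comp h.iso
  have cc : ∀ {n : ℕ}, Nat.card X = n → ¬ 138240 ∣ n → CompC2 X → False := by
    intro n hn h1 hX
    rw [hn] at d2
    have h3 : ¬ 2 ≤ k := fun h3 => h1 (d2 h3)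
    exact noA (noA_of_compC2 (by omega) hX)
  unfold IsSporadicGroup at hsp
  rcases hsp with h1 | h1 | h1 | h1 | h1 | h1 | h1 | h1 | h1 | h1 | h1 | h1 | h1 | h1 | h1 | h1 | h1 | h1 | h1 | h1 |
    h1 | h1 | h1 | h1 | h1 | h1
  -- M11 M12 M22 M23 M24 J1 J2 J3 J4 Co1 Co2 Co3 McL HS Suz He Ru ON Ly Fi22 Fi23 Fi24' HN Th B M
  · exact small (NotCT.Orders.m11 h1) (by norm_num) (by norm_num)
  · exact small (NotCT.Orders.m12 h1) (by norm_num) (by norm_num)
  · exact noA (noA_of_charTwo (OddHalf.Small.Mathieu.m22 h1))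
  · exact noA (noA_of_charTwo (OddHalf.Small.Mathieu.m23 h1))
  · exact noA (noA_of_charTwo (OddHalf.Small.M24Char.m24 h1))
  · exact small (NotCT.Orders.j1 h1) (by norm_num) (by norm_num)
  · exact cc (NotCT.Orders.j2 h1) (by norm_num) (JTwo.compC2_of_iso h1)
  · exact small (NotCT.Orders.j3 h1) (by norm_num) (by norm_num)
  · exact noA (noA_of_charTwo (SevenCases.SporJ4.charTwo h1))
  · obtain ⟨e⟩ := h1
    refine noA (NoA.of_equiv e.symm (noA_of_compCard h2r Co1.compCard ?_))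
    rintro n m ⟨rfl, -⟩
    exact fact_ne 12 (by decide) (by decide) r
  · exact noA (noA_of_charTwo (SevenCases.SporCo2.charTwo h1))
  · obtain ⟨e⟩ := h1
    refine noA (NoA.of_equiv e.symm (noA_of_compCard h2r Co3.compCard ?_))
    rintro n m (⟨rfl, -⟩ | ⟨rfl | rfl, -⟩)
    · exact fact_ne 10 (by decide) (by decide) r
    · exact fact_ne 8 (by decide) (by decide) r
    · exact fact_ne 9 (by decide) (by decide) r
  · have h7 := seven (NotCT.Orders.mcl h1) (by norm_num) (by norm_num)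
    subst h7
    exact mcl h1 h
  · exact cc (NotCT.Orders.hs h1) (by norm_num) (HS.compC2_of_iso h1)
  · exact noA (suz h2r h8 h1)
  · exact noA (he h2r h1)
  · refine noA (noA_of_compCard h2r (Ru.compCard_of_iso h1) ?_)
    rintro n m ⟨rfl, -⟩
    exact fact_ne 8 (by decide) (by decide) r
  · have h7 := seven (NotCT.Orders.on h1) (by norm_num) (by norm_num)
    subst h7
    exact on h1 h
  · have h7 := seven (NotCT.Orders.ly h1) (by norm_num) (by norm_num)
    subst h7
    exact ly h1 h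
  · obtain ⟨e⟩ := h1
    refine noA (NoA.of_equiv e.symm (noA_of_compCard h2r Fi22.compCard ?_))
    rintro n m ⟨rfl, -⟩
    exact fact_ne 13 (by decide) (by decide) r
  · obtain ⟨e⟩ := h1
    have hr : r = 6 ∨ (r = 7 ∨ 9 ≤ r) := by omega
    rcases hr with rfl | hr
    · exact noA (NoA.of_equiv e.symm (noA_of_noSpec Fi23Fin.noSpec))
    · exact noA (NoA.of_equiv e.symm (noA_of_compC2 hr Fi23Fin.compC2))
  · obtain ⟨e⟩ := h1
    refine noA (NoA.of_equiv e.symm (noA_of_compCard h2r FiTF.compCard ?_))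
    rintro n m ⟨rfl, -⟩
    exact fact_ne 16 (by decide) (by decide) r
  · obtain ⟨e⟩ := h1
    refine noA (NoA.of_equiv e.symm (noA_of_compCard h2r HN.compCard ?_))
    rintro n m ⟨rfl, -⟩
    exact fact_ne 11 (by decide) (by decide) r
  · exact noA (noA_of_charTwo (SevenCases.SporTh.charTwo h1))
  · obtain ⟨e⟩ := h1
    have hr : r = 6 ∨ (r = 7 ∨ 9 ≤ r) := by omega
    rcases hr with rfl | hr
    · exact noA (NoA.of_equiv e.symm (noA_of_noSpec B.noSpec))
    · exact noA (NoA.of_equiv e.symm (noA_of_compC2 hr (B.compC2 h0 (SevenCases.Tab.twoTable h0))))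
  · refine noA (noA_of_compCard h2r (Monster.compCard h1) ?_)
    rintro n m ⟨rfl, -⟩
    exact fact_ne 31 (by decide) (by decide) r

/-- **No sporadic group has the centralizer of an involution of `A_m`, `m = 4 k + r`.** -/
theorem spor (h0 : CpAut.AllKnown.{0}) {Ω : Type*} [DecidableEq Ω] [Fintype Ω] {s : Perm Ω} (hs : s * s = 1)
    {k r : ℕ} (hk : s.support.card = 4 * k) (hr : Fintype.card {x // s x = x} = r)
    (hmod : r % 4 = 2 ∨ r % 4 = 3) (hbig : 2 ≤ k ∨ 7 ≤ r)
    {X : Type u} [Group X] [Finite X] [IsSimpleGroup X] (hsp : IsSporadicGroup X) {t : X} {A : Subgroup X}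
    (h : EM t A r) (f : ↥(Alt.CC s) ≃* ↥(centralizer ({t} : Set X))) : False :=
  spor_of h0 hmod hbig hsp h (card_cent hs hk hr (by have := h.hr; omega) f)

end Cfsg.Agent.H44.AltSpor
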